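import Groth.Prelude.Def_Found
import Mathlib

/-! Fields are Nagata rings. -/

set_option linter.style.haveILetI false
universe u

namespace GrothLib.CharRing

/-- A field is a Nagata ring. -/
theorem isNagata_field {K : Type u} [Field K] : CAlg.IsNagata K := by
  refine ⟨inferInstance, fun p _ L _ _ _ _ hL => ?_⟩
  haveI hp : p.IsMaximal := (Ideal.eq_bot_or_top p).elim (fun h => h ▸ Ideal.bot_isMaximal)
    fun h => absurd h Ideal.IsPrime.ne_top'
  letI : Field (K ⧸ p) := Ideal.Quotient.field p
  haveI : Module.Finite (K ⧸ p) (FractionRing (K ⧸ p)) :=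
    Module.Finite.of_surjective (Algebra.linearMap (K ⧸ p) (FractionRing (K ⧸ p))) fun x => by
      obtain ⟨a, b, hb, rfl⟩ := IsFractionRing.div_surjective (A := K ⧸ p) x
      exact ⟨a / b, map_div₀ (algebraMap (K ⧸ p) (FractionRing (K ⧸ p))) a b⟩
  haveI : Module.Finite (K ⧸ p) L := Module.Finite.trans (FractionRing (K ⧸ p)) L
  exact Module.Finite.of_injective ((integralClosure (K ⧸ p) L).val.toLinearMap) Subtype.val_injective



end GrothLib.CharRing
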