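import Groth.Agent.Lib.CharRing.Mult
import Mathlib

/-!
# Characters of a subgroup are integral over the characters of the group
-/

open TensorProduct Polynomial

namespace GrothLib.CharRing

theorem maxGen_mul {K B : Type*} [Field K] [CommRing B] [Algebra K B] (R : B →ₐ[K] B) (μ ν : K) {x y : B}
    (hx : x ∈ Module.End.maxGenEigenspace R.toLinearMap μ) (hy : y ∈ Module.End.maxGenEigenspace R.toLinearMap ν) :
    x * y ∈ Module.End.maxGenEigenspace R.toLinearMap (μ * ν) := by
  obtain ⟨a, ha⟩ := Module.End.mem_maxGenEigenspace _ _ _ |>.1 hx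
  obtain ⟨b, hb⟩ := Module.End.mem_maxGenEigenspace _ _ _ |>.1 hy
  refine (Module.End.mem_maxGenEigenspace _ _ _).2 ⟨a + b, ?_⟩
  clear hx hy
  induction hn : a + b generalizing x y a b with
  | zero =>
    obtain rfl : a = 0 := by omega
    simp only [pow_zero, Module.End.one_apply] at ha ⊢
    rw [ha, zero_mul]
  | succ n ih =>
    rcases Nat.eq_zero_or_pos a with rfl | ha0
    · simp only [pow_zero, Module.End.one_apply] at ha
      rw [ha, zero_mul, map_zero]
    rcases Nat.eq_zero_or_pos b with rfl | hb0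
    · simp only [pow_zero, Module.End.one_apply] at hb
      rw [hb, mul_zero, map_zero]
    obtain ⟨a', rfl⟩ := Nat.exists_eq_add_of_le' ha0
    obtain ⟨b', rfl⟩ := Nat.exists_eq_add_of_le' hb0
    have e : (R.toLinearMap - (μ * ν) • (1 : Module.End K B)) (x * y) =
        (R.toLinearMap - μ • (1 : Module.End K B)) x * R y +
          μ • (x * (R.toLinearMap - ν • (1 : Module.End K B)) y) := by
      simp only [LinearMap.sub_apply, LinearMap.smul_apply, Module.End.one_apply, AlgHom.toLinearMap_apply,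
        map_mul, sub_mul, mul_sub, smul_sub, smul_mul_assoc, mul_smul_comm, smul_smul]
      abel
    have hRy : ((R.toLinearMap - ν • (1 : Module.End K B)) ^ (b' + 1)) (R y) = 0 := by
      have hc : Commute ((R.toLinearMap - ν • (1 : Module.End K B)) ^ (b' + 1)) (R.toLinearMap : Module.End K B) :=
        ((Commute.refl _).sub_left ((Commute.one_left _).smul_left _)).pow_left _
      have h := LinearMap.congr_fun hc.eq y
      simp only [Module.End.mul_apply, AlgHom.toLinearMap_apply] at h
      rw [h, hb, map_zero]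
    have h1 := ih a' (b := b' + 1) (x := (R.toLinearMap - μ • (1 : Module.End K B)) x) (y := R y)
      (by rw [← Module.End.mul_apply, ← pow_succ]; exact ha) hRy (by omega)
    have h2 := ih (a' + 1) (b := b') (x := x) (y := (R.toLinearMap - ν • (1 : Module.End K B)) y)
      ha (by rw [← Module.End.mul_apply, ← pow_succ]; exact hb) (by omega)
    rw [pow_succ, Module.End.mul_apply, e, map_add, map_smul, h1, h2, smul_zero, add_zero]

theorem exists_fin_enum {α : Type*} (s : Multiset α) {d : ℕ} (h : Multiset.card s = d) :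
    ∃ r : Fin d → α, Finset.univ.val.map r = s := by
  induction s using Quot.inductionOn with
  | _ l =>
    subst h
    refine ⟨fun i => l.get i, ?_⟩
    rw [Fin.univ_val_map]
    exact congrArg _ (List.ofFn_get l)

theorem mem_range_of_hasEigen {K : Type*} [Field K] {n : Type*} [Fintype n] [DecidableEq n] {d : ℕ}
    (M : Matrix n n K) {r : Fin d → K} (hr : Finset.univ.val.map r = M.charpoly.roots) {μ : K}
    {v : n → K} (hv : v ≠ 0) {k : ℕ} (hk : ((Matrix.toLin' M - μ • (1 : Module.End K (n → K))) ^ k) v = 0) :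
    ∃ l, r l = μ := by
  have he : ∃ w : n → K, w ≠ 0 ∧ Matrix.toLin' M w = μ • w := by
    induction k generalizing v with
    | zero => exact absurd (by simpa using hk) hv
    | succ k ih =>
      by_cases h : (Matrix.toLin' M - μ • (1 : Module.End K (n → K))) v = 0
      · exact ⟨v, hv, sub_eq_zero.1 (by simpa using h)⟩
      · exact ih h (by rw [← Module.End.mul_apply, ← pow_succ]; exact hk)
  obtain ⟨w, hw, hweq⟩ := he
  have hroot : M.charpoly.IsRoot μ := by
    rw [← Matrix.charpoly_toLin']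
    exact Module.End.hasEigenvalue_iff_isRoot_charpoly _ _ |>.1
      (Module.End.hasEigenvalue_of_hasEigenvector ⟨Module.End.mem_eigenspace_iff.2 hweq, hw⟩)
  have hmem : μ ∈ Finset.univ.val.map r := hr ▸ (mem_roots M.charpoly_monic.ne_zero).2 hroot
  obtain ⟨l, -, hl⟩ := Multiset.mem_map.1 hmem
  exact ⟨l, hl⟩

variable {A B : Type} [CommRing A] [CommRing B]

section Translate

variable [Bialgebra ℂ B] (φ : B →ₐ[ℂ] ℂ)

/-- translation by a point -/
noncomputable def rtrans : B →ₐ[ℂ] B :=
  (Algebra.TensorProduct.rid ℂ ℂ B).toAlgHom.comp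
    ((Algebra.TensorProduct.map (AlgHom.id ℂ B) φ).comp (Bialgebra.comulAlgHom ℂ B))

theorem rtrans_apply {ι : Type*} [Fintype ι] [DecidableEq ι] {b : Matrix ι ι B} (h : IsMult (k := ℂ) b) (j i : ι) :
    rtrans φ (b j i) = ∑ l, φ (b l i) • b j l := by
  show Algebra.TensorProduct.rid ℂ ℂ B (Algebra.TensorProduct.map (AlgHom.id ℂ B) φ
    (CoalgebraStruct.comul (R := ℂ) (b j i))) = _
  rw [h.comul_apply]
  simp [map_sum]

/-- a point's eigenvalues on a representation are products of its eigenvalues on a generating one -/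
theorem exists_eigen_eq_prod {d : ℕ} (ub : Fin d → B) (a : Matrix (Fin d) (Fin d) B)
    (hu : ∀ i, CoalgebraStruct.comul (R := ℂ) (ub i) = ∑ j, ub j ⊗ₜ[ℂ] a j i)
    {r : Fin d → ℂ} (hr : Finset.univ.val.map r = (a.map φ).charpoly.roots)
    {n : Type*} [Fintype n] [DecidableEq n] {b : Matrix n n B} (hb : IsMult (k := ℂ) b) (m : ℕ)
    (hm : ∀ j i, b j i ∈ Submodule.span ℂ (Set.range ub) ^ m)
    {lam : ℂ} (hlam : (b.map φ).charpoly.IsRoot lam) :
    ∃ σ : Fin m → Fin d, ∏ i, r (σ i) = lam := by
  set R : B →ₐ[ℂ] B := rtrans φ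
  have hRu : ∀ i, R (ub i) = ∑ j, φ (a j i) • ub j := fun i => by
    show Algebra.TensorProduct.rid ℂ ℂ B (Algebra.TensorProduct.map (AlgHom.id ℂ B) φ
      (CoalgebraStruct.comul (R := ℂ) (ub i))) = _
    rw [hu]
    simp [map_sum]
  let T : (Fin d → ℂ) →ₗ[ℂ] B := Fintype.linearCombination ℂ ub
  have hTM : R.toLinearMap ∘ₗ T = T ∘ₗ Matrix.toLin' (a.map φ) := by
    refine LinearMap.pi_ext' fun i => LinearMap.ext_ring ?_
    simp [T, Fintype.linearCombination_apply, hRu, Pi.single_apply, Matrix.toLin'_apply, Matrix.mulVec, dotProduct]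
  have hU : Submodule.span ℂ (Set.range ub) ≤ ⨆ l, Module.End.maxGenEigenspace R.toLinearMap (r l) := by
    rw [← Fintype.range_linearCombination, LinearMap.range_eq_map, ← Module.End.iSup_maxGenEigenspace_eq_top (Matrix.toLin' (a.map φ)), Submodule.map_iSup]
    refine iSup_le fun μ => Submodule.map_le_iff_le_comap.2 fun v hv => ?_
    obtain ⟨k, hk⟩ := (Module.End.mem_maxGenEigenspace _ _ _).1 hv
    by_cases hv0 : v = 0
    · subst hv0; exact Submodule.zero_mem _
    obtain ⟨l, rfl⟩ := mem_range_of_hasEigen _ hr hv0 hk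
    refine Submodule.mem_iSup_of_mem l ((Module.End.mem_maxGenEigenspace _ _ _).2 ⟨k, ?_⟩)
    have e : ∀ k, ((R.toLinearMap - r l • (1 : Module.End ℂ B)) ^ k : Module.End ℂ B) ∘ₗ T =
        T ∘ₗ ((Matrix.toLin' (a.map φ) - r l • (1 : Module.End ℂ (Fin d → ℂ))) ^ k : Module.End ℂ (Fin d → ℂ)) := by
      intro k
      induction k with
      | zero => rfl
      | succ k ih =>
        rw [pow_succ, pow_succ, Module.End.mul_eq_comp, Module.End.mul_eq_comp, LinearMap.comp_assoc]
        have e1 : (R.toLinearMap - r l • (1 : Module.End ℂ B)) ∘ₗ T =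
            T ∘ₗ (Matrix.toLin' (a.map φ) - r l • (1 : Module.End ℂ (Fin d → ℂ))) := by
          rw [LinearMap.sub_comp, hTM, LinearMap.comp_sub, LinearMap.smul_comp, LinearMap.comp_smul]
          rfl
        rw [e1, ← LinearMap.comp_assoc, ih, LinearMap.comp_assoc]
    have h2 := LinearMap.congr_fun (e k) v
    rw [LinearMap.comp_apply, LinearMap.comp_apply, hk, map_zero] at h2
    exact h2
  have hUm : ∀ m : ℕ, Submodule.span ℂ (Set.range ub) ^ m ≤
      ⨆ σ : Fin m → Fin d, Module.End.maxGenEigenspace R.toLinearMap (∏ i, r (σ i)) := by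
    intro m
    induction m with
    | zero =>
      rw [pow_zero, Submodule.one_le]
      refine Submodule.mem_iSup_of_mem Fin.elim0 ((Module.End.mem_maxGenEigenspace _ _ _).2 ⟨1, ?_⟩)
      simp
    | succ m ih =>
      rw [pow_succ, Submodule.mul_le]
      intro x hx y hy
      have hx' := ih hx
      have hy' := hU hy
      clear hx hy ih
      induction hx' using Submodule.iSup_induction' with
      | zero => rw [zero_mul]; exact Submodule.zero_mem _
      | add p q _ _ hp hq => rw [add_mul]; exact Submodule.add_mem _ hp hq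
      | mem σ p hp =>
        induction hy' using Submodule.iSup_induction' with
        | zero => rw [mul_zero]; exact Submodule.zero_mem _
        | add u w _ _ hu hw => rw [mul_add]; exact Submodule.add_mem _ hu hw
        | mem l u hu =>
          refine Submodule.mem_iSup_of_mem (Fin.snoc σ l) ?_
          have h := maxGen_mul R _ _ hp hu
          rwa [show (∏ i, r ((Fin.snoc σ l : Fin (m + 1) → Fin d) i)) = (∏ i, r (σ i)) * r l by
            rw [Fin.prod_univ_castSucc]; simp]
  rw [← Matrix.charpoly_toLin', ← Module.End.hasEigenvalue_iff_isRoot_charpoly] at hlam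
  obtain ⟨v, hv⟩ := hlam.exists_hasEigenvector
  obtain ⟨j, hj⟩ : ∃ j, v j ≠ 0 := Function.ne_iff.1 hv.2
  let x : B := ∑ i, v i • b j i
  have hxm : x ∈ Submodule.span ℂ (Set.range ub) ^ m :=
    Submodule.sum_mem _ fun i _ => Submodule.smul_mem _ _ (hm j i)
  have hRx : R x = lam • x := by
    have hv' : ∀ l, ∑ i, φ (b l i) * v i = lam * v l := fun l => by
      have h := congrFun hv.apply_eq_smul l
      simpa [Matrix.toLin'_apply, Matrix.mulVec, dotProduct] using h
    simp only [x, map_sum, map_smul, R, rtrans_apply φ hb, Finset.smul_sum, smul_smul]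
    rw [Finset.sum_comm]
    refine Finset.sum_congr rfl fun l _ => ?_
    rw [← Finset.sum_smul, ← hv' l]
    simp only [mul_comm]
  have hx0 : x ≠ 0 := fun h => hj (by
    have h2 := congrArg (CoalgebraStruct.counit (R := ℂ) (A := B)) h
    simpa [x, map_sum, hb.counit_apply] using h2)
  by_contra hne
  have hdis := (Module.End.independent_maxGenEigenspace (R.toLinearMap : Module.End ℂ B)).disjoint_biSup
    (x := lam) (y := Set.range fun σ : Fin m → Fin d => ∏ i, r (σ i)) (by simpa using hne)
  refine hx0 (Submodule.disjoint_def.1 hdis x ((Module.End.mem_maxGenEigenspace _ _ _).2 ⟨1, ?_⟩) ?_)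
  · simp [hRx]
  · have hle : (⨆ σ : Fin m → Fin d, Module.End.maxGenEigenspace R.toLinearMap (∏ i, r (σ i))) ≤
        ⨆ μ ∈ Set.range fun σ : Fin m → Fin d => ∏ i, r (σ i), Module.End.maxGenEigenspace R.toLinearMap μ :=
      iSup_le fun σ => le_iSup₂_of_le (∏ i, r (σ i)) ⟨σ, rfl⟩ le_rfl
    exact hle (hUm m hxm)

end Translate

/-- the universal polynomial -/
noncomputable def univPoly (d m n : ℕ) : Polynomial (MvPolynomial (Fin d) ℂ) :=
  ∏ σ : Fin n → Fin m → Fin d, (X - C (∑ j, ∏ i, MvPolynomial.X (σ j i)))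

theorem isSymmetric_coeff_univPoly (d m n r : ℕ) : ((univPoly d m n).coeff r).IsSymmetric := fun e => by
  have h : (univPoly d m n).map (MvPolynomial.rename e).toRingHom = univPoly d m n := by
    rw [univPoly, Polynomial.map_prod]
    let E : (Fin n → Fin m → Fin d) ≃ (Fin n → Fin m → Fin d) :=
      Equiv.arrowCongr (Equiv.refl _) (Equiv.arrowCongr (Equiv.refl _) e)
    refine Fintype.prod_equiv E _ _ fun σ => ?_
    simp [E, Polynomial.map_sum, Polynomial.map_prod]
  conv_rhs => rw [← h]
  rw [Polynomial.coeff_map]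
  rfl

theorem isIntegral_trace [Bialgebra ℂ B] (hred : ∀ x : B, (∀ φ : B →ₐ[ℂ] ℂ, φ x = 0) → x = 0)
    {d : ℕ} (ub : Fin d → B) (a : Matrix (Fin d) (Fin d) B)
    (hu : ∀ i, CoalgebraStruct.comul (R := ℂ) (ub i) = ∑ j, ub j ⊗ₜ[ℂ] a j i)
    (C' : Subalgebra ℂ B) (hC' : ∀ t : Fin d, (compound (t + 1) a).trace ∈ C')
    {n : ℕ} {b : Matrix (Fin n) (Fin n) B} (hb : IsMult (k := ℂ) b) (m : ℕ)
    (hm : ∀ j i, b j i ∈ Submodule.span ℂ (Set.range ub) ^ m) :
    IsIntegral C' b.trace := by
  classical
  let es : MvPolynomial (Fin d) ℂ →ₐ[ℂ] MvPolynomial (Fin d) ℂ :=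
    MvPolynomial.aeval fun t : Fin d => MvPolynomial.esymm (Fin d) ℂ (t + 1)
  have hes : ∀ p : MvPolynomial (Fin d) ℂ, p.IsSymmetric → ∃ q, es q = p := fun p hp => by
    obtain ⟨q, hq⟩ := MvPolynomial.esymmAlgHom_surjective (σ := Fin d) ℂ (n := d) (by simp) ⟨p, hp⟩
    refine ⟨q, ?_⟩
    have h := congrArg Subtype.val hq
    rw [MvPolynomial.esymmAlgHom_apply] at h
    exact h
  have hmon : (univPoly d m n).Monic := monic_prod_of_monic _ _ fun σ _ => monic_X_sub_C _
  have hlift : univPoly d m n ∈ Polynomial.lifts es.toRingHom := by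
    rw [Polynomial.lifts_iff_coeff_lifts]
    exact fun r => hes _ (isSymmetric_coeff_univPoly d m n r)
  obtain ⟨Q, hQ, -, hQm⟩ := Polynomial.lifts_and_degree_eq_and_monic hlift hmon
  let Θ : MvPolynomial (Fin d) ℂ →ₐ[ℂ] C' := MvPolynomial.aeval fun t : Fin d => ⟨_, hC' t⟩
  refine ⟨Q.map Θ.toRingHom, hQm.map _, hred _ fun φ => ?_⟩
  obtain ⟨r, hr⟩ := exists_fin_enum (a.map φ).charpoly.roots (d := d) (by
    rw [IsAlgClosed.card_roots_eq_natDegree, Matrix.charpoly_natDegree_eq_dim, Fintype.card_fin])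
  -- the elementary symmetric functions of the eigenvalues
  have hE : ∀ t : Fin d, φ ((compound (t + 1) a).trace) =
      MvPolynomial.aeval r (MvPolynomial.esymm (Fin d) ℂ (t + 1)) := fun t => by
    rw [MvPolynomial.aeval_esymm_eq_multiset_esymm, hr]
    have ht : (t : ℕ) + 1 ≤ Fintype.card (Fin d) := by rw [Fintype.card_fin]; exact t.2
    have h1 := Matrix.charpoly_coeff_eq_sum_minors (a.map φ) ((t : ℕ) + 1) ht
    have hcard : Multiset.card (a.map φ).charpoly.roots = d := by
      rw [← hr]; simp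
    rw [← trace_compound] at h1
    have hcm : (compound (t + 1) (a.map φ)).trace = φ ((compound (t + 1) a).trace) :=
      ((congrArg Matrix.trace (compound_map (t + 1) a φ.toRingHom)).trans
        (AddMonoidHom.map_trace φ.toRingHom.toAddMonoidHom _).symm)
    rw [hcm, (IsAlgClosed.splits (a.map φ).charpoly).eq_prod_roots_of_monic (Matrix.charpoly_monic _),
      Multiset.prod_X_sub_C_coeff _ (by rw [hcard, Fintype.card_fin]; omega), hcard, Fintype.card_fin,
      show d - (d - ((t : ℕ) + 1)) = (t : ℕ) + 1 by have := t.2; omega] at h1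
    exact (mul_left_cancel₀ (pow_ne_zero _ (neg_ne_zero.2 one_ne_zero)) h1).symm
  -- the eigenvalues of the representation
  obtain ⟨lam, hlam⟩ := exists_fin_enum (b.map φ).charpoly.roots (d := n) (by
    rw [IsAlgClosed.card_roots_eq_natDegree, Matrix.charpoly_natDegree_eq_dim, Fintype.card_fin])
  have hσ : ∀ j, ∃ σ : Fin m → Fin d, ∏ i, r (σ i) = lam j := fun j =>
    exists_eigen_eq_prod φ ub a hu hr hb m hm (isRoot_of_mem_roots (by
      rw [← hlam]; exact Multiset.mem_map.2 ⟨j, Finset.mem_univ_val j, rfl⟩))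
  choose σ hσ using hσ
  have hchi : φ b.trace = ∑ j, ∏ i, r (σ j i) := by
    rw [show φ b.trace = (b.map φ).trace from AddMonoidHom.map_trace φ.toRingHom.toAddMonoidHom b,
      Matrix.trace_eq_sum_roots_charpoly, ← hlam]
    simp [hσ, Finset.sum]
  have hcomp : (φ.toRingHom.comp (algebraMap C' B)).comp Θ.toRingHom =
      (MvPolynomial.aeval r : MvPolynomial (Fin d) ℂ →ₐ[ℂ] ℂ).toRingHom.comp es.toRingHom := by
    have h : (φ.comp C'.val).comp Θ = (MvPolynomial.aeval r).comp es :=
      MvPolynomial.algHom_ext fun t => by simp [Θ, es, hE]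
    exact congrArg AlgHom.toRingHom h
  show φ.toRingHom (Polynomial.eval₂ (algebraMap C' B) b.trace (Q.map Θ.toRingHom)) = 0
  rw [Polynomial.hom_eval₂, Polynomial.eval₂_map, hcomp, ← Polynomial.eval₂_map, hQ, univPoly, Polynomial.eval₂_finsetProd]
  refine Finset.prod_eq_zero (Finset.mem_univ σ) ?_
  simp [hchi, Polynomial.eval₂_finsetSum, Polynomial.eval₂_finsetProd, map_sum, map_prod]

end GrothLib.CharRing
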