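import Groth.Prelude.Def_HopfRep
import Mathlib

/-!
# Multiplicative matrices: comodules on coordinate spaces, compound matrices
-/

universe u v

open TensorProduct

namespace GrothLib.CharRing

variable {k : Type u} [CommRing k] {A : Type v} [CommRing A] [Bialgebra k A]

/-- `Δ a_ji = Σ a_jl ⊗ a_li` and `ε a_ji = δ_ji` -/
def IsMult {ι : Type*} [Fintype ι] [DecidableEq ι] (a : Matrix ι ι A) : Prop :=
  a.map (Bialgebra.comulAlgHom k A) =
      a.map (Algebra.TensorProduct.includeLeft (R := k) (S := k) (A := A) (B := A)) *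
        a.map (Algebra.TensorProduct.includeRight (R := k) (A := A) (B := A)) ∧
    a.map (Bialgebra.counitAlgHom k A) = 1

theorem IsMult.comul_apply {ι : Type*} [Fintype ι] [DecidableEq ι] {a : Matrix ι ι A}
    (h : IsMult (k := k) a) (j i : ι) :
    CoalgebraStruct.comul (R := k) (a j i) = ∑ l, a j l ⊗ₜ[k] a l i := by
  refine (congrFun (congrFun h.1 j) i).trans ?_
  simp [Matrix.mul_apply]

theorem IsMult.counit_apply {ι : Type*} [Fintype ι] [DecidableEq ι] {a : Matrix ι ι A}
    (h : IsMult (k := k) a) (j i : ι) :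
    CoalgebraStruct.counit (R := k) (a j i) = if j = i then 1 else 0 :=
  (congrFun (congrFun h.2 j) i).trans Matrix.one_apply

theorem isMult_of_apply {ι : Type*} [Fintype ι] [DecidableEq ι] {a : Matrix ι ι A}
    (h1 : ∀ j i, CoalgebraStruct.comul (R := k) (a j i) = ∑ l, a j l ⊗ₜ[k] a l i)
    (h2 : ∀ j i, CoalgebraStruct.counit (R := k) (a j i) = if j = i then 1 else 0) : IsMult (k := k) a := by
  constructor
  · ext j i
    refine (h1 j i).trans ?_
    simp [Matrix.mul_apply]
  · ext j i
    exact (h2 j i).trans Matrix.one_apply.symm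

/-- the matrix of a comodule on a coordinate space -/
noncomputable def matOf {ι : Type*} [Fintype ι] [DecidableEq ι] (c : HopfRep.Comod k A (ι → k)) :
    Matrix ι ι A :=
  fun j i => TensorProduct.lid k A (LinearMap.rTensor A (LinearMap.proj j) (c.coact (Pi.single i 1)))

theorem eq_sum_single {ι : Type*} [Fintype ι] [DecidableEq ι] {M : Type*} [AddCommGroup M] [Module k M]
    (t : (ι → k) ⊗[k] M) :
    t = ∑ j, (Pi.single j (1 : k) : ι → k) ⊗ₜ[k] TensorProduct.lid k M (LinearMap.rTensor M (LinearMap.proj j) t) := by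
  induction t using TensorProduct.induction_on with
  | zero => simp
  | add p q hp hq => simp only [map_add, tmul_add, Finset.sum_add_distrib, ← hp, ← hq]
  | tmul v m =>
    simp only [LinearMap.rTensor_tmul, lid_tmul, LinearMap.proj_apply]
    rw [show (∑ j, (Pi.single j (1 : k) : ι → k) ⊗ₜ[k] (v j • m)) =
      ∑ j, (v j • (Pi.single j (1 : k) : ι → k)) ⊗ₜ[k] m by simp only [smul_tmul], ← sum_tmul]
    congr 1
    funext l
    simp [Pi.single_apply]

theorem coact_single {ι : Type*} [Fintype ι] [DecidableEq ι] (c : HopfRep.Comod k A (ι → k)) (i : ι) :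
    c.coact (Pi.single i 1) = ∑ j, (Pi.single j (1 : k) : ι → k) ⊗ₜ[k] matOf c j i :=
  eq_sum_single _

theorem isMult_matOf {ι : Type*} [Fintype ι] [DecidableEq ι] (c : HopfRep.Comod k A (ι → k)) :
    IsMult (k := k) (matOf c) := by
  refine isMult_of_apply (fun j i => ?_) (fun j i => ?_)
  · have h := congrArg (fun t => TensorProduct.lid k (A ⊗[k] A) (LinearMap.rTensor (A ⊗[k] A) (LinearMap.proj j) t))
      (LinearMap.congr_fun c.coassoc (Pi.single i 1))
    simp only [LinearMap.comp_apply, LinearEquiv.coe_coe, coact_single, map_sum, LinearMap.rTensor_tmul,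
      LinearMap.lTensor_tmul, sum_tmul, assoc_tmul, lid_tmul, LinearMap.proj_apply] at h
    simpa [Pi.single_apply] using h.symm
  · have h := congrArg (fun t => TensorProduct.lid k k (LinearMap.rTensor k (LinearMap.proj j) t))
      (LinearMap.congr_fun c.counit_comp (Pi.single i 1))
    simpa [coact_single, map_sum, Pi.single_apply] using h

/-- the comodule of a multiplicative matrix -/
@[reducible] noncomputable def comodOf {ι : Type*} [Fintype ι] [DecidableEq ι] (a : Matrix ι ι A)
    (h : IsMult (k := k) a) : HopfRep.Comod k A (ι → k) where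
  coact := ∑ i, (LinearMap.proj i).smulRight (∑ j, (Pi.single j (1 : k) : ι → k) ⊗ₜ[k] a j i)
  coassoc := by
    refine LinearMap.pi_ext' fun i => LinearMap.ext_ring ?_
    simp only [LinearMap.comp_apply, LinearEquiv.coe_coe, LinearMap.coe_single, LinearMap.sum_apply,
      LinearMap.smulRight_apply, LinearMap.proj_apply, Pi.single_apply, ite_smul, one_smul, zero_smul,
      Finset.sum_ite_eq', Finset.mem_univ, if_true, map_sum, LinearMap.rTensor_tmul,
      LinearMap.lTensor_tmul, sum_tmul, assoc_tmul, h.comul_apply, tmul_sum]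
    rw [Finset.sum_comm]
  counit_comp := by
    refine LinearMap.pi_ext' fun i => LinearMap.ext_ring ?_
    simp [map_sum, h.counit_apply, Pi.single_apply, tmul_ite]

theorem matOf_comodOf {ι : Type*} [Fintype ι] [DecidableEq ι] (a : Matrix ι ι A) (h : IsMult (k := k) a) :
    matOf (comodOf a h) = a := by
  ext j i
  show TensorProduct.lid k A (LinearMap.rTensor A (LinearMap.proj j)
    ((∑ i, (LinearMap.proj i).smulRight (∑ j, (Pi.single j (1 : k) : ι → k) ⊗ₜ[k] a j i) :
      (ι → k) →ₗ[k] (ι → k) ⊗[k] A) (Pi.single i 1))) = a j i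
  simp [map_sum, Pi.single_apply]

variable (k A) in
/-- the characters of comodules on coordinate spaces -/
def charSet : Set A :=
  Set.range (fun p : (Σ d : ℕ, HopfRep.Comod k A (Fin d → k)) =>
    ∑ i : Fin p.1, TensorProduct.lid k A (LinearMap.rTensor A (LinearMap.proj i)
      (@HopfRep.Comod.coact k A _ _ _ _ (Fin p.1 → k) _ _ p.2 (Pi.single i 1))))

theorem IsMult.submatrix {ι κ : Type*} [Fintype ι] [DecidableEq ι] [Fintype κ] [DecidableEq κ]
    {a : Matrix ι ι A} (h : IsMult (k := k) a) (e : κ ≃ ι) : IsMult (k := k) (a.submatrix e e) := by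
  constructor
  · rw [← Matrix.submatrix_map, h.1, ← Matrix.submatrix_map, ← Matrix.submatrix_map, Matrix.submatrix_mul_equiv]
  · rw [← Matrix.submatrix_map, h.2, Matrix.submatrix_one_equiv]

theorem IsMult.map {ι : Type*} [Fintype ι] [DecidableEq ι] {B : Type*} [CommRing B] [Bialgebra k B]
    {a : Matrix ι ι A} (h : IsMult (k := k) a) (π : A →ₐc[k] B) : IsMult (k := k) (a.map π) := by
  refine isMult_of_apply (fun j i => ?_) (fun j i => ?_)
  · rw [Matrix.map_apply, ← CoalgHomClass.map_comp_comul_apply π, h.comul_apply, map_sum]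
    simp
  · rw [Matrix.map_apply, CoalgHomClass.counit_comp_apply π, h.counit_apply]

theorem trace_mem_charSet {ι : Type*} [Fintype ι] [DecidableEq ι] {a : Matrix ι ι A}
    (h : IsMult (k := k) a) : a.trace ∈ charSet k A := by
  let e := (Fintype.equivFin ι).symm
  refine ⟨⟨_, comodOf _ (h.submatrix e)⟩, ?_⟩
  show ∑ i, matOf (comodOf _ (h.submatrix e)) i i = a.trace
  rw [matOf_comodOf]
  exact e.sum_comp fun i => a i i

section Compound

variable {R : Type*} [CommRing R] {d : ℕ}

/-- the matrix of `n × n` minors -/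
noncomputable def compound (n : ℕ) (M : Matrix (Fin d) (Fin d) R) :
    Matrix (Set.powersetCard (Fin d) n) (Set.powersetCard (Fin d) n) R :=
  fun s t => (M.submatrix (Set.powersetCard.ofFinEmbEquiv.symm s) (Set.powersetCard.ofFinEmbEquiv.symm t)).det

theorem toMatrix_map (n : ℕ) (M : Matrix (Fin d) (Fin d) R) :
    LinearMap.toMatrix ((Pi.basisFun R (Fin d)).exteriorPower n) ((Pi.basisFun R (Fin d)).exteriorPower n)
      (exteriorPower.map n (Matrix.toLin' M)) = compound n M := by
  ext s t
  rw [LinearMap.toMatrix_apply, exteriorPower.basis_repr_apply, exteriorPower.basis_apply,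
    exteriorPower.map_apply_ιMulti_family, exteriorPower.ιMulti_family, exteriorPower.ιMultiDual_apply_ιMulti,
    compound, ← Matrix.det_transpose]
  congr 1
  ext i j
  simp [Matrix.toLin'_apply]

theorem compound_mul (n : ℕ) (M N : Matrix (Fin d) (Fin d) R) :
    compound n (M * N) = compound n M * compound n N := by
  rw [← toMatrix_map, ← toMatrix_map, ← toMatrix_map, Matrix.toLin'_mul, exteriorPower.map_comp,
    LinearMap.toMatrix_comp _ ((Pi.basisFun R (Fin d)).exteriorPower n)]

theorem compound_one (n : ℕ) : compound n (1 : Matrix (Fin d) (Fin d) R) = 1 := by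
  rw [← toMatrix_map, Matrix.toLin'_one, exteriorPower.map_id, LinearMap.toMatrix_id]

theorem compound_map (n : ℕ) (M : Matrix (Fin d) (Fin d) R) {S : Type*} [CommRing S] (f : R →+* S) :
    compound n (M.map f) = (compound n M).map f := by
  ext s t
  rw [Matrix.map_apply, compound, compound, RingHom.map_det, RingHom.mapMatrix_apply, Matrix.submatrix_map]

theorem trace_compound (n : ℕ) (M : Matrix (Fin d) (Fin d) R) :
    (compound n M).trace =
      ∑ s ∈ Finset.univ.powersetCard n, (M.submatrix (Subtype.val : s → Fin d) (Subtype.val : s → Fin d)).det := by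
  rw [Matrix.trace]
  refine Finset.sum_bij' (fun s _ => s.1) (fun s hs => ⟨s, (Finset.mem_powersetCard.1 hs).2⟩)
    (fun s _ => Finset.mem_powersetCard.2 ⟨Finset.subset_univ _, s.2⟩) (fun _ _ => Finset.mem_univ _)
    (fun _ _ => rfl) (fun _ _ => rfl) fun s _ => ?_
  rw [Matrix.diag_apply, compound, ← Matrix.det_submatrix_equiv_self (s.1.orderIsoOfFin s.2).toEquiv
    (M.submatrix (Subtype.val : s.1 → Fin d) (Subtype.val : s.1 → Fin d)), Matrix.submatrix_submatrix]
  rfl

end Compound

theorem IsMult.compound {d : ℕ} {a : Matrix (Fin d) (Fin d) A} (h : IsMult (k := k) a) (n : ℕ) :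
    IsMult (k := k) (compound n a) := by
  constructor
  · have e := congrArg (GrothLib.CharRing.compound n) h.1
    rw [compound_mul] at e
    have h3 := compound_map n a (Bialgebra.comulAlgHom k A).toRingHom
    have h4 := compound_map n a (Algebra.TensorProduct.includeLeft (R := k) (S := k) (A := A) (B := A)).toRingHom
    have h5 := compound_map n a (Algebra.TensorProduct.includeRight (R := k) (A := A) (B := A)).toRingHom
    exact h3.symm.trans (e.trans (congrArg₂ (· * ·) h4 h5))
  · have e := congrArg (GrothLib.CharRing.compound n) h.2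
    rw [compound_one] at e
    exact (compound_map n a (Bialgebra.counitAlgHom k A).toRingHom).symm.trans e

end GrothLib.CharRing
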